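import Cfsg.Agent.H39.ZassGram

/-!
# The multiplicity vectors of the characters of the kernel in the characters of a Zassenhaus group
-/

set_option autoImplicit false

namespace Cfsg.Agent.H48.Zass

open MulAction
open Cfsg.Agent
open scoped Classical

variable {G Ω : Type*} [Group G] [Fintype G] [MulAction G Ω] [Fintype Ω] (S : H39.ZSetup G Ω)
variable [IsSimpleGroup G] (hodd : Odd S.e)

/-- The multiplicities of a character of the kernel in the restrictions of the remaining characters. -/
noncomputable def mvec (φ : Cfsg.IrrCharacter S.H) (χ : Cfsg.IrrCharacter G) : ℤ :=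
  if χ ∈ S.rest hodd then (S.mult χ φ : ℤ) else 0

/-- The nontrivial linear characters of the kernel. -/
noncomputable def lins : Finset (Cfsg.IrrCharacter S.H) :=
  (Finset.univ.filter fun φ => H39.degOf φ = 1).erase (H26.oneIrr S.H)

omit [IsSimpleGroup G] in
/-- The trivial character has degree one. -/
theorem degOf_oneIrr : H39.degOf (H26.oneIrr S.H) = 1 := by
  have h := H39.degOf_spec (H26.oneIrr S.H)
  rw [H26.oneIrr_val] at h
  exact_mod_cast h.symm

omit [IsSimpleGroup G] in
/-- Membership in the nontrivial linear characters. -/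
theorem mem_lins {φ : Cfsg.IrrCharacter S.H} :
    φ ∈ lins S ↔ φ ≠ H26.oneIrr S.H ∧ H39.degOf φ = 1 := by
  simp [lins]

omit [IsSimpleGroup G] in
/-- The number of nontrivial linear characters. -/
theorem card_lins : (lins S).card = (commutator S.H).index - 1 := by
  have h1 : H26.oneIrr S.H ∈ Finset.univ.filter fun φ : Cfsg.IrrCharacter S.H => H39.degOf φ = 1 :=
    Finset.mem_filter.2 ⟨Finset.mem_univ _, degOf_oneIrr S⟩
  rw [lins, Finset.card_erase_of_mem h1,
    ← H26.card_linear_irr, Nat.card_eq_fintype_card, Fintype.card_subtype]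
  congr 2
  ext φ
  simp only [Finset.mem_filter, Finset.mem_univ, true_and]
  rw [H39.degOf_spec φ]
  exact Nat.cast_eq_one.symm

include hodd

/-- The value on a remaining character. -/
theorem mvec_rest (φ : Cfsg.IrrCharacter S.H) {χ : Cfsg.IrrCharacter G} (hχ : χ ∈ S.rest hodd) :
    mvec S hodd φ χ = S.mult χ φ := if_pos hχ

/-- The inner products. -/
theorem gram {φ φ' : Cfsg.IrrCharacter S.H} (h : φ ≠ H26.oneIrr S.H) (h' : φ' ≠ H26.oneIrr S.H) :
    ∑ χ ∈ S.rest hodd, mvec S hodd φ χ * mvec S hodd φ' χ =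
      (if S.SameOrbit φ φ' then 1 else 0) + (H39.degOf φ : ℤ) * H39.degOf φ' * S.kk hodd := by
  rw [Finset.sum_congr rfl fun χ hχ => by rw [mvec_rest S hodd φ hχ, mvec_rest S hodd φ' hχ]]
  have := S.rest_gram hodd h h'
  exact_mod_cast this

/-- Equal vectors come from one orbit. -/
theorem mvec_eq_iff {φ φ' : Cfsg.IrrCharacter S.H} (h : φ ≠ H26.oneIrr S.H)
    (h' : φ' ≠ H26.oneIrr S.H) (hd : H39.degOf φ = H39.degOf φ') :
    mvec S hodd φ = mvec S hodd φ' ↔ S.SameOrbit φ φ' := by
  constructor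
  · intro e
    by_contra hne
    have h1 := gram S hodd h h'
    rw [← e, gram S hodd h h, if_pos (S.sameOrbit_refl φ), if_neg hne, hd] at h1
    omega
  · intro hs
    funext χ
    by_cases hχ : χ ∈ S.rest hodd
    · have h0 : ∑ χ ∈ S.rest hodd, (mvec S hodd φ χ - mvec S hodd φ' χ) *
          (mvec S hodd φ χ - mvec S hodd φ' χ) = 0 := by
        simp only [show ∀ a b : ℤ, (a - b) * (a - b) = a * a - 2 * (a * b) + b * b from
          fun a b => by ring, Finset.sum_add_distrib, Finset.sum_sub_distrib, ← Finset.mul_sum,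
          gram S hodd h h, gram S hodd h h', gram S hodd h' h', if_pos hs,
          if_pos (S.sameOrbit_refl φ), if_pos (S.sameOrbit_refl φ'), hd]
        ring
      exact sub_eq_zero.1 (mul_self_eq_zero.1
        ((Finset.sum_eq_zero_iff_of_nonneg fun χ _ => mul_self_nonneg _).1 h0 χ hχ))
    · simp [mvec, hχ]

/-- Each vector of a linear character comes from `e` characters. -/
theorem card_fibre {v : Cfsg.IrrCharacter G → ℤ} (hv : v ∈ (lins S).image (mvec S hodd)) :
    ((lins S).filter fun φ => mvec S hodd φ = v).card = S.e := by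
  obtain ⟨φ, hφ, rfl⟩ := Finset.mem_image.1 hv
  obtain ⟨hφ1, hφd⟩ := (mem_lins S).1 hφ
  have hfin : (lins S).filter (fun ψ => mvec S hodd ψ = mvec S hodd φ) =
      Finset.univ.image fun d : S.D => S.cj d φ := by
    ext ψ
    constructor
    · intro hψ
      obtain ⟨hψL, he'⟩ := Finset.mem_filter.1 hψ
      obtain ⟨hψ1, hψd⟩ := (mem_lins S).1 hψL
      obtain ⟨d, hd⟩ := (mvec_eq_iff S hodd hψ1 hφ1 (hψd.trans hφd.symm)).1 he'
      exact Finset.mem_image.2 ⟨d, Finset.mem_univ _, hd⟩
    · intro hψ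
      obtain ⟨d, -, rfl⟩ := Finset.mem_image.1 hψ
      have h1 : S.cj d φ ≠ H26.oneIrr S.H := S.cj_ne_one hφ1
      refine Finset.mem_filter.2 ⟨(mem_lins S).2 ⟨h1, (S.degOf_cj d φ).trans hφd⟩,
        (mvec_eq_iff S hodd h1 hφ1 (S.degOf_cj d φ)).2 ⟨d, rfl⟩⟩
  rw [hfin, Finset.card_image_of_injective _ (S.cj_injective hφ1), Finset.card_univ,
    ← Nat.card_eq_fintype_card]
  rfl

/-- The number of vectors of linear characters. -/
theorem card_image_lins :
    ((lins S).image (mvec S hodd)).card * S.e = (commutator S.H).index - 1 := by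
  rw [← card_lins S, Finset.card_eq_sum_card_image (mvec S hodd) (lins S),
    Finset.sum_congr rfl fun v hv => card_fibre S hodd hv, Finset.sum_const, smul_eq_mul]

/-- Summing over the linear characters. -/
theorem sum_lins (χ : Cfsg.IrrCharacter G) :
    ∑ φ ∈ lins S, mvec S hodd φ χ = (S.e : ℤ) * ∑ v ∈ (lins S).image (mvec S hodd), v χ := by
  rw [Finset.sum_comp (fun v => v χ) (mvec S hodd), Finset.mul_sum]
  exact Finset.sum_congr rfl fun v hv => by rw [card_fibre S hodd hv, nsmul_eq_mul]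

/-- The inner products of the vectors of linear characters. -/
theorem gram_lins {v : Cfsg.IrrCharacter G → ℤ} (hv : v ∈ (lins S).image (mvec S hodd))
    {v' : Cfsg.IrrCharacter G → ℤ} (hv' : v' ∈ (lins S).image (mvec S hodd)) :
    ∑ χ ∈ S.rest hodd, v χ * v' χ = (if v = v' then 1 else 0) + (S.kk hodd : ℤ) := by
  obtain ⟨φ, hφ, rfl⟩ := Finset.mem_image.1 hv
  obtain ⟨φ', hφ', rfl⟩ := Finset.mem_image.1 hv'
  obtain ⟨h, hd⟩ := (mem_lins S).1 hφ
  obtain ⟨h', hd'⟩ := (mem_lins S).1 hφ'
  simp only [gram S hodd h h', mvec_eq_iff S hodd h h' (hd.trans hd'.symm), hd, hd', Nat.cast_one,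
    one_mul]

/-- The vectors are nonnegative. -/
theorem mvec_nonneg (φ : Cfsg.IrrCharacter S.H) (χ : Cfsg.IrrCharacter G) :
    0 ≤ mvec S hodd φ χ := by
  unfold mvec
  split_ifs
  exacts [Int.natCast_nonneg _, le_rfl]

end Cfsg.Agent.H48.Zass
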