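import Cfsg.Agent.H48.Zass.Vectors
import Cfsg.Agent.H48.Zass.Families
import Cfsg.Agent.H25.CharIntegral

/-!
# An abelian kernel of a simple Zassenhaus group with `e + 1 < h` and `e + 1` a power of two
-/

set_option autoImplicit false

namespace Cfsg.Agent.H48.Zass

open MulAction
open Cfsg.Agent
open scoped Classical

variable {G Ω : Type*} [Group G] [Fintype G] [MulAction G Ω] [Fintype Ω] (S : H39.ZSetup G Ω)
variable [IsSimpleGroup G] (hodd : Odd S.e)
include hodd

/-- An abelian kernel has order at most `e + 1` when both are powers of two. -/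
theorem abelian_false {n m : ℕ} (hh : S.h = 2 ^ m) (he : S.e + 1 = 2 ^ n) (hnm : n < m)
    (hcomm : ∀ x y : S.H, x * y = y * x) : False := by
  set k := S.kk hodd with hk
  have hek : S.e = 2 * k + 1 := S.e_eq hodd
  have hk1 : 1 ≤ k := S.kk_pos hodd
  set R := S.rest hodd
  set L := lins S with hL
  set I := L.image (mvec S hodd) with hI
  have hidx : (commutator S.H).index = S.h := by
    have : commutator S.H = ⊥ := by
      rw [commutator_def, Subgroup.commutator_eq_bot_iff_le_centralizer]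
      exact fun x _ => Subgroup.mem_centralizer_iff.2 fun y _ => hcomm y x
    rw [this, Subgroup.index_bot]
    rfl
  have hIe : (I.card : ℤ) * S.e = 2 ^ m - 1 := by
    have h := card_image_lins S hodd
    rw [hidx, hh] at h
    rw [hI, hL]
    have : 1 ≤ 2 ^ m := Nat.one_le_two_pow
    zify [this] at h
    exact h
  have hI : (2 : ℤ) ^ n + 1 ≤ I.card := by
    have hd : (2 : ℤ) ^ n ∣ (I.card : ℤ) - 1 := by
      refine (dvd_sub (dvd_mul_left _ (I.card : ℤ)) (pow_dvd_pow 2 hnm.le)).trans ?_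
      have : (S.e : ℤ) = 2 ^ n - 1 := by
        have : (S.e : ℤ) + 1 = 2 ^ n := by exact_mod_cast he
        omega
      rw [this] at hIe
      rw [show (I.card : ℤ) - 1 = I.card * 2 ^ n - 2 ^ m by linear_combination -hIe]
    have hgt : (I.card : ℤ) ≠ 1 := fun h => by
      rw [h, one_mul] at hIe
      have h1 : (S.e : ℤ) + 1 = 2 ^ n := by exact_mod_cast he
      have h2 : (2 : ℤ) ^ n < 2 ^ m := pow_lt_pow_right₀ (by norm_num) hnm
      omega
    have hge : (1 : ℤ) ≤ I.card := by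
      by_contra h
      rw [show (I.card : ℤ) = 0 by omega, zero_mul] at hIe
      have h2 : (2 : ℤ) ^ n < 2 ^ m := pow_lt_pow_right₀ (by norm_num) hnm
      have h1 : (1 : ℤ) ≤ 2 ^ n := one_le_pow₀ (by norm_num)
      omega
    have := Int.le_of_dvd (by omega) hd
    omega
  have hq : (2 : ℤ) ^ n = 2 * k + 2 := by
    have h1 : (S.e : ℤ) + 1 = 2 ^ n := by exact_mod_cast he
    have h2 : (S.e : ℤ) = 2 * k + 1 := by exact_mod_cast hek
    omega
  obtain ⟨c, x, hxR, hinj, hval, -, hcc⟩ := star R (k : ℤ) I (fun χ => (H39.degOf χ : ℤ))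
    ((S.h + 1) * k + 1) (by omega) (by omega)
    (fun v hv χ hχ => by
      obtain ⟨φ, -, rfl⟩ := Finset.mem_image.1 hv
      exact mvec_nonneg S hodd φ χ)
    (fun v hv => by rw [gram_lins S hodd hv hv, if_pos rfl, add_comm])
    (fun v hv v' hv' hne => by rw [gram_lins S hodd hv hv', if_neg hne, zero_add])
    (fun χ _ => by exact_mod_cast H39.degOf_pos χ)
    (fun v hv => by
      obtain ⟨φ, hφ, rfl⟩ := Finset.mem_image.1 hv
      obtain ⟨h1, h2⟩ := (mem_lins S).1 hφ
      have h := S.rest_deg hodd h1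
      rw [h2, one_mul] at h
      rw [Finset.sum_congr rfl (g := fun χ => ((S.mult χ φ * H39.degOf χ : ℕ) : ℤ))
        (fun χ hχ => by rw [mvec_rest S hodd φ hχ]; push_cast; ring), ← Nat.cast_sum, h]
      push_cast; rfl)
  obtain ⟨χ, hχ, hne⟩ : ∃ χ ∈ R, c χ ≠ 0 := by
    by_contra hcon
    push Not at hcon
    rw [Finset.sum_eq_zero fun χ hχ => by rw [hcon χ hχ, mul_zero]] at hcc
    omega
  have hχX : ∀ v ∈ I, χ ≠ x v := fun v hv e => hne (e ▸ (hxR v hv).2)
  have hlin : ∀ φ : Cfsg.IrrCharacter S.H, H39.degOf φ = 1 := fun φ => by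
    have h := H26.irr_one_eq_one_of_comm hcomm φ
    rw [H39.degOf_spec] at h
    exact_mod_cast h
  have hdeg : (H39.degOf χ : ℤ) = S.e * (I.card * c χ) := by
    rw [S.degOf_eq_sum χ, ← Finset.add_sum_erase _ _ (Finset.mem_univ (H26.oneIrr S.H)),
      S.mult_one_rest hodd hχ, zero_mul, zero_add,
      show Finset.univ.erase (H26.oneIrr S.H) = L by
        ext φ; simp [hL, mem_lins, hlin φ]]
    push_cast
    rw [Finset.sum_congr rfl (g := fun φ => mvec S hodd φ χ)
      (fun φ _ => by rw [mvec_rest S hodd φ hχ, hlin φ, Nat.cast_one, mul_one]), sum_lins S hodd]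
    congr 1
    rw [Finset.sum_congr rfl (g := fun _ => c χ)
      (fun v hv => by rw [hval v hv χ hχ, if_neg (hχX v hv), add_zero]), Finset.sum_const,
      nsmul_eq_mul]
  have hdvd : (H39.degOf χ : ℤ) ∣ (S.e : ℤ) * (((2 : ℤ) ^ m + 1) * 2 ^ m) := by
    obtain ⟨n', ρ, hρ, eρ⟩ := χ.2
    haveI := hρ
    have hd := H25.finrank_dvd_card ρ
    rw [Module.finrank_fin_fun, S.card_G, hh] at hd
    have : H39.degOf χ = n' := by
      have h := H39.degOf_spec χ
      rw [← eρ, ρ.char_one, Module.finrank_fin_fun] at h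
      exact_mod_cast h.symm
    rw [this, mul_comm (S.e : ℤ)]
    exact_mod_cast hd
  rw [hdeg] at hdvd
  have h1 : (I.card : ℤ) ∣ ((2 : ℤ) ^ m + 1) * 2 ^ m :=
    (dvd_mul_right _ (c χ)).trans
      (Int.dvd_of_mul_dvd_mul_left (by rw [hek]; push_cast; omega) hdvd)
  have h2 : (I.card : ℤ) ∣ 2 := by
    have h3 : (I.card : ℤ) ∣ 2 ^ m - 1 := ⟨S.e, hIe.symm⟩
    have := dvd_sub h1 (h3.mul_right ((2 : ℤ) ^ m + 2))
    rwa [show ((2 : ℤ) ^ m + 1) * 2 ^ m - (2 ^ m - 1) * (2 ^ m + 2) = 2 by ring] at this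
  have := Int.le_of_dvd (by norm_num) h2
  omega

end Cfsg.Agent.H48.Zass
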