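import Cfsg.Agent.H48.Zass.Vectors
import Cfsg.Agent.H48.Zass.Families
import Cfsg.Agent.H44.Inflation
import Cfsg.Agent.H25.TwoDegrees

/-!
# A simple Zassenhaus group has no kernel of order `q³` with `q - 1` the order of a two-point stabiliser
-/

set_option autoImplicit false

namespace Cfsg.Agent.H48.Zass

open MulAction
open Cfsg.Agent
open scoped Classical

/-- The arithmetic contradiction. -/
theorem cube_arith (n : ℕ) (hn : 2 ≤ n) (c Δ M : ℤ) (hc : Odd c) (hc0 : 0 ≤ c) (hΔ : Odd Δ)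
    (hcq : 2 * c ≤ 2 ^ n) (hΔq : Δ * Δ ≤ 2 ^ n)
    (hM : M = c * ((2 ^ n) ^ 2 + 2 ^ n + 1) + 2 ^ n * Δ)
    (hdvd : M ∣ ((2 ^ n) ^ 3 + 1) * (2 ^ n) ^ 3) : False := by
  obtain ⟨r, hr⟩ : (4 : ℤ) ∣ 2 ^ n := ⟨2 ^ (n - 2), by
    rw [show (4 : ℤ) = 2 ^ 2 by norm_num, ← pow_add, Nat.add_sub_cancel' hn]⟩
  set q : ℤ := 2 ^ n with hq
  have hq0 : 0 < q := by positivity
  have hq4 : 4 ≤ q := by omega
  obtain ⟨t, ht⟩ : Odd M := by
    rw [hM]
    refine Odd.add_even (hc.mul ?_) ((even_iff_two_dvd.2 ⟨2 * r, by omega⟩).mul_right Δ)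
    refine ⟨8 * r * r + 2 * r, ?_⟩
    rw [hr]; ring
  have hcop2 : IsCoprime M 2 := ⟨1, -t, by rw [ht]; ring⟩
  have h1 : M ∣ q ^ 3 + 1 := by
    refine (IsCoprime.dvd_of_dvd_mul_right ?_ hdvd)
    rw [hq, ← pow_mul]
    exact hcop2.pow_right
  obtain ⟨j, hj⟩ : M ∣ 2 * c - (q - 1) * q * Δ := by
    have h2 : (2 * c - (q - 1) * q * Δ) = (q ^ 3 + 1) * c - (q - 1) * M := by rw [hM]; ring
    rw [h2]
    exact dvd_sub (h1.mul_right c) (dvd_mul_left M (q - 1))
  obtain ⟨s, hs⟩ : q ∣ 2 - j := by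
    obtain ⟨u, hu⟩ := hc
    have hcc : IsCoprime q c := by
      rw [hq]
      exact (show IsCoprime (2 : ℤ) c from ⟨-u, 1, by rw [hu]; ring⟩).pow_left
    refine hcc.dvd_of_dvd_mul_left ⟨j * c * (q + 1) + j * Δ + (q - 1) * Δ, ?_⟩
    rw [hM] at hj
    linear_combination hj
  have hc1 : 1 ≤ c := by rcases hc with ⟨u, hu⟩; omega
  have hD : 2 * Δ ≤ q - 2 ∧ -(q - 2) ≤ 2 * Δ := by
    rcases hΔ with ⟨u, hu⟩
    have h3 : 2 * Δ ≤ q ∧ -q ≤ 2 * Δ := ⟨by nlinarith, by nlinarith⟩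
    omega
  rcases (by omega : s = 0 ∨ s ≤ -1 ∨ 1 ≤ s) with rfl | hs' | hs'
  · obtain rfl : j = 2 := by omega
    rw [hM] at hj
    have : q * (q + 1) * (Δ + 2 * c) = 0 := by linear_combination -hj
    have h0 : Δ + 2 * c = 0 := by
      rcases mul_eq_zero.1 this with h | h
      · nlinarith
      · exact h
    rcases hΔ with ⟨u, hu⟩
    omega
  all_goals
    have hM' : 2 * M ≥ 2 * (q ^ 2 + q + 1) - q * (q - 2) := by
      rw [hM]; nlinarith
    have hMpos : 0 ≤ M := by nlinarith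
    have hD1 : 2 * (2 * c - (q - 1) * q * Δ) ≤ 2 * q + (q - 1) * q * (q - 2) := by
      have h0 : 0 ≤ (q - 1) * q := by nlinarith
      nlinarith
    have hD2 : -(2 * q + (q - 1) * q * (q - 2)) ≤ 2 * (2 * c - (q - 1) * q * Δ) := by
      have h0 : 0 ≤ (q - 1) * q := by nlinarith
      nlinarith
    rw [hj] at hD1 hD2
    have hmain : (q - 2) * (2 * M) ≥ (q - 2) * (2 * (q ^ 2 + q + 1) - q * (q - 2)) :=
      mul_le_mul_of_nonneg_left hM' (by omega)
  · have hqs : q * 1 ≤ q * (-s) := mul_le_mul_of_nonneg_left (by omega) (by omega)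
    have : (q - 2) * (2 * M) ≤ j * (2 * M) := mul_le_mul_of_nonneg_right (by linarith) (by omega)
    nlinarith
  · have hqs : q * 1 ≤ q * s := mul_le_mul_of_nonneg_left (by omega) (by omega)
    have : j * (2 * M) ≤ -(q - 2) * (2 * M) := mul_le_mul_of_nonneg_right (by linarith) (by omega)
    nlinarith

variable {G Ω : Type*} [Group G] [Fintype G] [MulAction G Ω] [Fintype Ω] (S : H39.ZSetup G Ω)
variable [IsSimpleGroup G] (hodd : Odd S.e)
include hodd

/-- The kernel of order `q³` is impossible. -/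
theorem cube_false {n : ℕ} (hn : 2 ≤ n) (hh : S.h = (2 ^ n) ^ 3) (he : S.e + 1 = 2 ^ n)
    (hidx : (commutator S.H).index = (2 ^ n) ^ 2) (hz : ∃ z ∈ commutator S.H, z ≠ 1) : False := by
  set q := 2 ^ n with hq
  have hq4 : 4 ≤ q := le_trans (by norm_num) (Nat.pow_le_pow_right (show 0 < 2 by norm_num) hn)
  set k := S.kk hodd with hk
  have hek : S.e = 2 * k + 1 := S.e_eq hodd
  set R := S.rest hodd with hR
  set M : Cfsg.IrrCharacter S.H → Cfsg.IrrCharacter G → ℤ := mvec S hodd with hM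
  have hMR : ∀ φ, ∀ χ ∈ R, M φ χ = S.mult χ φ := fun φ χ hχ => mvec_rest S hodd φ hχ
  -- linear and nonlinear characters of the kernel
  set Lin := Finset.univ.filter fun φ : Cfsg.IrrCharacter S.H => H39.degOf φ = 1 with hLin
  set NL := Finset.univ.filter fun φ : Cfsg.IrrCharacter S.H => ¬ H39.degOf φ = 1 with hNL
  have hone := degOf_oneIrr S
  have hone' : H26.oneIrr S.H ∈ Lin := Finset.mem_filter.2 ⟨Finset.mem_univ _, hone⟩
  set L := lins S with hL
  have hNLne : ∀ φ ∈ NL, φ ≠ H26.oneIrr S.H := fun φ hφ e => (Finset.mem_filter.1 hφ).2 (e ▸ hone)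
  have hLmem : ∀ φ ∈ L, φ ≠ H26.oneIrr S.H ∧ H39.degOf φ = 1 := fun φ hφ => (mem_lins S).1 hφ
  have hcardL : L.card = q ^ 2 - 1 := by rw [hL, card_lins, hidx]
  set orb : Cfsg.IrrCharacter S.H → Finset (Cfsg.IrrCharacter S.H) :=
    fun φ => Finset.univ.image fun d : S.D => S.cj d φ with horb
  have horbcard : ∀ φ, φ ≠ H26.oneIrr S.H → (orb φ).card = S.e := fun φ hφ => by
    rw [horb, Finset.card_image_of_injective _ (S.cj_injective hφ), Finset.card_univ,
      ← Nat.card_eq_fintype_card]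
    rfl
  have horbmem : ∀ φ, φ ≠ H26.oneIrr S.H → ∀ ψ ∈ orb φ,
      ψ ≠ H26.oneIrr S.H ∧ H39.degOf ψ = H39.degOf φ ∧ S.SameOrbit ψ φ := fun φ hφ ψ hψ => by
    obtain ⟨d, -, rfl⟩ := Finset.mem_image.1 hψ
    exact ⟨S.cj_ne_one hφ, S.degOf_cj d φ, d, rfl⟩
  set I := L.image M with hI
  have hcardI : I.card = q + 1 := by
    have h1 := card_image_lins S hodd
    rw [hidx] at h1
    have h2 : q ^ 2 - 1 = (q + 1) * S.e := by
      rw [show S.e = q - 1 by omega, ← Nat.sq_sub_sq, one_pow]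
    exact Nat.eq_of_mul_eq_mul_right (show 0 < S.e by omega) (h1.trans h2)
  have hsumL := sum_lins S hodd
  -- the positive vector
  set W : Cfsg.IrrCharacter G → ℤ := fun χ => ∑ φ ∈ NL, M φ χ with hWdef
  have hsplit : ∀ F : Cfsg.IrrCharacter S.H → ℕ,
      ∑ φ, F φ = F (H26.oneIrr S.H) + ∑ φ ∈ L, F φ + ∑ φ ∈ NL, F φ := fun F => by
    rw [hL, lins, Finset.add_sum_erase _ F hone',
      hLin, hNL, Finset.sum_filter_add_sum_filter_not]
  have hWpos : ∀ χ ∈ R, 0 < W χ := by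
    intro χ hχ
    refine lt_of_le_of_ne (Finset.sum_nonneg fun φ _ => by rw [hMR φ χ hχ]; exact Int.natCast_nonneg _)
      fun h0 => ?_
    have h00 := (Finset.sum_eq_zero_iff_of_nonneg fun φ _ => by
      rw [hMR φ χ hχ]; exact Int.natCast_nonneg _).1 h0.symm
    obtain ⟨z, hzc, hz1⟩ := hz
    have hker : χ.1 (z : G) = χ.1 1 := by
      rw [S.restrict_eq χ z, ← Subgroup.coe_one S.H, S.restrict_eq χ 1]
      refine Finset.sum_congr rfl fun φ _ => ?_
      by_cases hd : H39.degOf φ = 1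
      · have h1 : φ.1 1 = 1 := by rw [H39.degOf_spec φ, hd, Nat.cast_one]
        obtain ⟨l, hl⟩ := H26.exists_hom_of_isCharacter_one (H26.irr_isCharacter φ) h1
        rw [← hl z, h1, show l z = 1 from Abelianization.commutator_subset_ker l hzc]
        simp
      · have h1 := h00 φ (Finset.mem_filter.2 ⟨Finset.mem_univ _, hd⟩)
        rw [hMR φ χ hχ, Int.natCast_eq_zero] at h1
        simp [h1]
    have := H44.kerOf_normal χ
    rcases (IsSimpleGroup.eq_bot_or_eq_top_of_normal (H44.kerOf χ) this) with h | h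
    · exact hz1 (Subtype.ext ((Subgroup.mem_bot).1 (h ▸ hker : (z : G) ∈ (⊥ : Subgroup G))))
    · have hconst : ∀ g, χ.1 g = χ.1 1 := fun g => (h ▸ Subgroup.mem_top g : g ∈ H44.kerOf χ)
      have h2 := (S.mem_rest hodd).1 hχ (H26.oneIrr S.D)
      have h3 := S.classInner_xi_oneIrr hodd (H26.oneIrr S.D)
      rw [if_pos rfl] at h3
      have h4 : (χ : Cfsg.IrrCharacter G).1 = χ.1 1 • (H26.oneIrr G).1 := funext fun g => by
        rw [Pi.smul_apply, H26.oneIrr_val, smul_eq_mul, mul_one, hconst g]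
      rw [h4, H26.classInner_smul_right, h3, mul_one, map_eq_zero] at h2
      exact H26.irr_one_ne_zero χ h2
  have hLNL : ∀ φ ∈ L, ∀ ψ ∈ NL, ¬ S.SameOrbit ψ φ := fun φ hφ ψ hψ ⟨d, hd⟩ =>
    (Finset.mem_filter.1 hψ).2 (by rw [← hd, S.degOf_cj, (hLmem φ hφ).2])
  have hWv : ∀ v ∈ I, ∑ χ ∈ R, W χ * v χ = ∑ ψ ∈ NL, (H39.degOf ψ : ℤ) * k := by
    intro v hv
    obtain ⟨φ, hφ, rfl⟩ := Finset.mem_image.1 hv
    simp only [hWdef, Finset.sum_mul]
    rw [Finset.sum_comm]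
    refine Finset.sum_congr rfl fun ψ hψ => ?_
    rw [gram S hodd (hNLne ψ hψ) (hLmem φ hφ).1, if_neg (hLNL φ hφ ψ hψ), (hLmem φ hφ).2]
    push_cast; ring
  obtain ⟨c, x, hxR, hinj, hval, hc0, hcc⟩ := star R (k : ℤ) I W _ (by omega)
    (by rw [hcardI]; push_cast; omega)
    (fun v hv χ hχ => by
      obtain ⟨φ, -, rfl⟩ := Finset.mem_image.1 hv
      exact mvec_nonneg S hodd φ χ)
    (fun v hv => by rw [gram_lins S hodd hv hv, if_pos rfl, add_comm])
    (fun v hv v' hv' hne => by rw [gram_lins S hodd hv hv', if_neg hne, zero_add])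
    hWpos hWv
  -- a nonlinear character meeting the exceptional constituents
  obtain ⟨v₁, hv₁⟩ := Finset.card_pos.1 (show 0 < I.card by omega)
  obtain ⟨ψ, hψ, hψ0⟩ := Finset.exists_ne_zero_of_sum_ne_zero (hWpos _ (hxR v₁ hv₁).1).ne'
  have hψ1 := hNLne ψ hψ
  set f := H39.degOf ψ with hf
  have hsq : ∑ φ : Cfsg.IrrCharacter S.H, H39.degOf φ ^ 2 = q ^ 3 := by
    have h := H26.sum_sq_degrees (G := S.H)
    simp only [H39.degOf_spec] at h
    rw [← hh]
    exact_mod_cast h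
  have hsqNL : ∑ φ ∈ NL, H39.degOf φ ^ 2 = S.e * q ^ 2 := by
    rw [hsplit, hone, one_pow, Finset.sum_congr rfl (s₁ := L) (g := fun _ => 1)
      (fun φ hφ => by rw [(hLmem φ hφ).2, one_pow]), Finset.sum_const, smul_eq_mul, mul_one,
      hcardL] at hsq
    have : 1 ≤ q ^ 2 := Nat.one_le_pow _ _ (by omega)
    have : q ^ 3 = S.e * q ^ 2 + q ^ 2 := by rw [← he]; ring
    omega
  have hsub : orb ψ ⊆ NL := fun φ hφ => Finset.mem_filter.2 ⟨Finset.mem_univ _, by
    rw [(horbmem ψ hψ1 φ hφ).2.1]; exact (Finset.mem_filter.1 hψ).2⟩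
  have horbsum : ∑ φ ∈ orb ψ, H39.degOf φ ^ 2 = S.e * f ^ 2 := by
    rw [Finset.sum_congr rfl (g := fun _ => f ^ 2) (fun φ hφ => by rw [(horbmem ψ hψ1 φ hφ).2.1]),
      Finset.sum_const, horbcard ψ hψ1, smul_eq_mul]
  have hfq : f ≤ q := by
    have h := Finset.sum_le_sum_of_subset (f := fun φ => H39.degOf φ ^ 2) hsub
    rw [hsqNL, horbsum] at h
    exact (Nat.pow_le_pow_iff_left two_ne_zero).1 (Nat.le_of_mul_le_mul_left h (by omega))
  obtain ⟨hbig, hw1, hΔ2, hΔc⟩ := extra R I c x (M ψ) (k : ℤ) (f : ℤ) hxR hinj hval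
    (fun χ hχ => by rw [hMR ψ χ hχ]; exact Int.natCast_nonneg _) hcc
    (fun v hv => by
      obtain ⟨φ, hφ, rfl⟩ := Finset.mem_image.1 hv
      rw [gram S hodd hψ1 (hLmem φ hφ).1, if_neg (hLNL φ hφ ψ hψ), (hLmem φ hφ).2]
      push_cast; ring)
    (by rw [gram S hodd hψ1 hψ1, if_pos (S.sameOrbit_refl ψ)])
    hv₁ hψ0 (by rw [hcardI]; push_cast; omega)
  rw [hcardI] at hbig hΔ2
  have hfeq : f = q := by
    obtain ⟨n', ρ, hρ, eρ⟩ := ψ.2
    haveI := hρ
    have hdv : f ∣ q ^ 3 := by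
      have hd := H25.finrank_dvd_card ρ
      rw [Module.finrank_fin_fun] at hd
      have : f = n' := by
        have h := H39.degOf_spec ψ
        rw [← eρ, ρ.char_one, Module.finrank_fin_fun] at h
        exact_mod_cast h.symm
      rw [this, ← hh]; exact hd
    rw [hq, ← pow_mul] at hdv
    obtain ⟨j, -, hj⟩ := (Nat.dvd_prime_pow Nat.prime_two).1 hdv
    rw [hj, hq] at hfq hbig
    push_cast at hbig
    have h1 : j ≤ n := (Nat.pow_le_pow_iff_right (by norm_num)).1 hfq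
    rcases h1.lt_or_eq with h | h
    · exfalso
      have : 2 * 2 ^ j ≤ 2 ^ n := by rw [← pow_succ']; exact Nat.pow_le_pow_right (by norm_num) h
      have : (2 : ℤ) * 2 ^ j ≤ 2 ^ n := by exact_mod_cast this
      omega
    · rw [hj, h, hq]
  have hall : ∀ φ ∈ NL, M φ = M ψ ∧ H39.degOf φ = q := by
    intro φ hφ
    have hmem : φ ∈ orb ψ := by
      by_contra hn'
      have h := Finset.sum_le_sum_of_subset (f := fun φ => H39.degOf φ ^ 2)
        (Finset.insert_subset hφ hsub)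
      rw [Finset.sum_insert hn', hsqNL, horbsum, hfeq] at h
      have := pow_pos (H39.degOf_pos φ) 2
      omega
    obtain ⟨h1, h2, h3⟩ := horbmem ψ hψ1 φ hmem
    exact ⟨(mvec_eq_iff S hodd h1 hψ1 h2).2 h3, h2.trans hfeq⟩
  have hcardNL : NL.card = S.e := by
    rw [Finset.sum_congr rfl (g := fun _ => q ^ 2) (fun φ hφ => by rw [(hall φ hφ).2]),
      Finset.sum_const, smul_eq_mul] at hsqNL
    exact Nat.eq_of_mul_eq_mul_right (by positivity) hsqNL
  -- the constituent of odd parameters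
  obtain ⟨χ, hχ, hodd'⟩ : ∃ χ ∈ R, Odd ((M ψ χ - f * c χ) * c χ) := by
    by_contra hcon
    push Not at hcon
    have := Finset.dvd_sum fun χ hχ => even_iff_two_dvd.1 (Int.not_odd_iff_even.1 (hcon χ hχ))
    rw [hΔc] at this
    omega
  obtain ⟨hΔo, hco⟩ := Int.odd_mul.1 hodd'
  have hχX : χ ∉ I.image x := by
    intro h
    obtain ⟨v, hv, rfl⟩ := Finset.mem_image.1 h
    rw [(hxR v hv).2] at hco
    exact (Int.not_odd_iff_even.2 Even.zero) hco
  have hcq : 2 * c χ ≤ (q : ℤ) := by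
    have h := Finset.single_le_sum (f := fun χ => c χ * c χ) (fun i _ => mul_self_nonneg (c i)) hχ
    rw [hcc] at h
    have := hc0 χ hχ
    have : c χ ≤ c χ * c χ := by nlinarith
    omega
  have hΔq : (M ψ χ - f * c χ) * (M ψ χ - f * c χ) ≤ (q : ℤ) := by
    have h := Finset.single_le_sum
      (f := fun χ => if χ ∈ I.image x then 0 else (M ψ χ - (f : ℤ) * c χ) * (M ψ χ - f * c χ))
      (fun i _ => by
        split_ifs
        exacts [le_rfl, mul_self_nonneg _]) hχ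
    rw [hΔ2] at h
    rw [if_neg hχX, hfeq] at h
    rw [hfeq]
    push_cast at h ⊢
    omega
  have hdeg : (H39.degOf χ : ℤ) =
      S.e * (c χ * ((q : ℤ) ^ 2 + q + 1) + q * (M ψ χ - f * c χ)) := by
    rw [S.degOf_eq_sum χ, hsplit, S.mult_one_rest hodd hχ, zero_mul, zero_add]
    push_cast
    have hcast : ∀ φ, (S.mult χ φ : ℤ) = M φ χ := fun φ => (hMR φ χ hχ).symm
    simp only [hcast]
    rw [Finset.sum_congr rfl (s₁ := L) (g := fun φ => M φ χ)
      (fun φ hφ => by rw [(hLmem φ hφ).2]; simp), hsumL,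
      Finset.sum_congr rfl (s₁ := I) (g := fun _ => c χ)
        (fun v hv => by rw [hval v hv χ hχ, if_neg fun e => hχX (Finset.mem_image.2 ⟨v, hv, e.symm⟩),
          add_zero]), Finset.sum_const, hcardI,
      Finset.sum_congr rfl (s₁ := NL) (g := fun _ => M ψ χ * q)
        (fun φ hφ => by rw [(hall φ hφ).1, (hall φ hφ).2]), Finset.sum_const, hcardNL, hfeq]
    simp only [nsmul_eq_mul]
    push_cast; ring
  have hdvd : (H39.degOf χ : ℤ) ∣ ((q : ℤ) ^ 3 + 1) * (q : ℤ) ^ 3 * S.e := by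
    obtain ⟨n', ρ, hρ, eρ⟩ := χ.2
    haveI := hρ
    have hd := H25.finrank_dvd_card ρ
    rw [Module.finrank_fin_fun, S.card_G, hh] at hd
    have : H39.degOf χ = n' := by
      have h := H39.degOf_spec χ
      rw [← eρ, ρ.char_one, Module.finrank_fin_fun] at h
      exact_mod_cast h.symm
    rw [this]
    exact_mod_cast hd
  rw [hdeg, mul_comm (((q : ℤ) ^ 3 + 1) * (q : ℤ) ^ 3) (S.e : ℤ)] at hdvd
  have hdvd' := Int.dvd_of_mul_dvd_mul_left (by omega) hdvd
  rw [hq] at hcq hΔq hdvd'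
  push_cast at hcq hΔq hdvd'
  exact cube_arith n hn (c χ) _ _ hco (hc0 χ hχ) hΔo hcq hΔq rfl hdvd'

end Cfsg.Agent.H48.Zass
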