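import Cfsg.Agent.H7.ZassKernel
import Cfsg.Agent.H48.Zass.Cube
import Cfsg.Agent.H48.Zass.Abelian
import Cfsg.Agent.H48.Suzuki.Order
import Cfsg.Agent.H48.Suzuki.TypeA

/-!
# Simple Zassenhaus groups whose kernel is a 2-group
-/

set_option autoImplicit false

namespace Cfsg.Agent.H48.Zass

open MulAction
open Cfsg.Agent
open scoped Classical Pointwise

variable {G Ω : Type*} [Group G] [Finite G] [MulAction G Ω] [Fintype Ω]

/-- The data of a kernel given by regularity. -/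
theorem exists_setup (hZ : Cfsg.IsZassenhausGroup G Ω) {a b : Ω} (hab : a ≠ b) (U : Subgroup G)
    (hUle : U ≤ stabilizer G a) (hUn : ∀ h ∈ stabilizer G a, ∀ u ∈ U, h * u * h⁻¹ ∈ U)
    (hreg : ∀ c d : Ω, c ≠ a → d ≠ a → ∃! u : U, (u : G) • c = d) :
    ∃ S : H39.ZSetup G Ω, S.a = a ∧ S.b = b ∧ S.H = U := by
  have K : H7.ZK G a b U := ⟨H7.ZHyp.of_zassenhaus hZ, hab, hUle, hUn, hreg⟩
  refine ⟨⟨a, b, hab, H7.ZHyp.of_zassenhaus hZ, U, hUle, ?_, fun u hu hu1 c hc => ?_⟩, rfl, rfl, rfl⟩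
  · rw [K.card_U, Nat.card_eq_fintype_card]
  · by_contra hca
    exact hu1 (K.free hu hca hc)

variable (S : H39.ZSetup G Ω)

omit [Finite G] in
/-- A kernel that is a 2-group has even order and odd degree. -/
theorem kernel_two (hU : IsPGroup 2 S.H) :
    Even S.h ∧ Odd (Fintype.card Ω) ∧ ∃ m, S.h = 2 ^ m := by
  haveI := S.finite
  haveI : Fact (Nat.Prime 2) := ⟨Nat.prime_two⟩
  obtain ⟨m, hm⟩ := IsPGroup.iff_card.1 hU
  have hm0 : m ≠ 0 := fun h => by
    have := S.two_le_h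
    rw [H39.ZSetup.h, hm, h, pow_zero] at this
    omega
  have he : Even S.h := by
    rw [H39.ZSetup.h, hm]
    exact Nat.even_pow.2 ⟨even_two, hm0⟩
  refine ⟨he, ?_, m, hm⟩
  rw [S.card_omega]
  exact he.add_one

omit [Finite G] in
/-- The order of the two-point stabiliser is odd. -/
theorem odd_e (hU : IsPGroup 2 S.H) : Odd S.e :=
  (H7.odd_degree_data S.Z (kernel_two S hU).2.1 S.hab).1

/-- The action of the two-point stabiliser on the kernel. -/
noncomputable def dHom (hodd : Odd S.e) [IsSimpleGroup G] : S.D →* MulAut S.H where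
  toFun d := S.conjH d⁻¹
  map_one' := by
    ext u
    simp [H39.ZSetup.coe_conjH]
  map_mul' c d := by
    ext u
    simp only [MulAut.mul_apply, H39.ZSetup.coe_conjH, InvMemClass.coe_inv, Subgroup.coe_mul,
      inv_inv]
    group

omit [Finite G] in
/-- The action in coordinates. -/
theorem coe_dHom [IsSimpleGroup G] (hodd : Odd S.e) (d : S.D) (u : S.H) :
    (dHom S hodd d u : G) = d * u * (d : G)⁻¹ := by
  simp [dHom, H39.ZSetup.coe_conjH]

omit [Finite G] in
/-- An involution fixing `a` lies in the kernel. -/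
theorem involution_mem_H (hodd : Odd S.e) {t : G} (ht : orderOf t = 2) (hta : t • S.a = S.a) :
    t ∈ S.H :=
  S.mem_H_of_free hta fun _ hy => S.involution_fix_unique hodd ht hy hta

variable [IsSimpleGroup G]

/-- The two-point stabiliser is regular on the involutions of the kernel. -/
theorem suzuki_setup (hU : IsPGroup 2 S.H) (hodd : Odd S.e) :
    Suzuki.Setup (dHom S hodd).range ∧ Function.Injective (dHom S hodd) := by
  haveI : Fact (Nat.Prime 2) := ⟨Nat.prime_two⟩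
  haveI : Nontrivial S.H := by
    obtain ⟨u, hu, hu1⟩ := S.exists_H_ne_one
    exact ⟨⟨⟨u, hu⟩, 1, fun h => hu1 (congrArg Subtype.val h)⟩⟩
  obtain ⟨z, -, hzc, hzo⟩ := H24.exists_central_orderOf hU (N := (⊤ : Subgroup S.H)) top_ne_bot
  have hzG : orderOf (z : G) = 2 := by rw [Subgroup.orderOf_coe]; exact hzo
  have hfix : ∀ d : S.D, ∀ u : S.H, u ≠ 1 → dHom S hodd d u = u → d = 1 := by
    intro d u hu h
    by_contra hd
    have h' := congrArg (fun x : S.H => (x : G)) h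
    simp only [coe_dHom] at h'
    exact hu (Subtype.ext (S.fpf d.2 (fun e => hd (Subtype.ext e)) u.2 (mul_inv_eq_iff_eq_mul.1 h')))
  have hinj : Function.Injective (dHom S hodd) := by
    rw [injective_iff_map_eq_one]
    intro d hd
    refine hfix d z (fun e => ?_) (by rw [hd, MulAut.one_apply])
    rw [e, orderOf_one] at hzo
    omega
  have htrans : ∀ y : S.H, y ≠ 1 → y * y = 1 → ∃ d : S.D, dHom S hodd d z = y := by
    intro y hy hy2
    have hyG : orderOf (y : G) = 2 := by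
      rw [Subgroup.orderOf_coe]
      exact orderOf_eq_prime (by rw [sq, hy2]) hy
    obtain ⟨g, hg⟩ := isConj_iff.1 (S.involutions_conj hodd hzG hyG)
    have hgN : g ∈ S.N := S.mem_N_of_conj_mem_H z.2
      (fun e => by rw [e, orderOf_one] at hzG; omega) (hg ▸ y.2)
    obtain ⟨u, hu, hub⟩ := S.exists_H_smul_b (S.smul_b_ne_a hgN)
    have hd : u⁻¹ * g ∈ S.D :=
      ⟨Subgroup.mul_mem _ (Subgroup.inv_mem _ (S.hHa hu)) hgN,
        by change (u⁻¹ * g) • S.b = S.b; rw [mul_smul, ← hub, inv_smul_smul]⟩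
    refine ⟨⟨_, hd⟩, ?_⟩
    have hc : ∀ w : S.H, (w : G) * z = z * w := fun w =>
      congrArg Subtype.val (Subgroup.mem_center_iff.1 hzc w)
    have hcy : y ∈ Subgroup.center S.H := by
      refine Subgroup.mem_center_iff.2 fun w => Subtype.ext ?_
      have h1 : g⁻¹ * w * g ∈ S.H := by
        have := S.conj_mem_H (inv_mem hgN) w.2
        rwa [inv_inv] at this
      have h2 := hc ⟨_, h1⟩
      simp only [Subgroup.coe_mul, ← hg]
      calc (w : G) * (g * z * g⁻¹) = g * ((g⁻¹ * w * g) * z) * g⁻¹ := by group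
        _ = _ := by rw [h2]; group
    apply Subtype.ext
    rw [coe_dHom]
    change u⁻¹ * g * z * (u⁻¹ * g)⁻¹ = y
    have h3 := congrArg Subtype.val (Subgroup.mem_center_iff.1 hcy ⟨u, hu⟩)
    simp only [Subgroup.coe_mul, ← hg] at h3 ⊢
    calc u⁻¹ * g * z * (u⁻¹ * g)⁻¹ = u⁻¹ * ((g * z * g⁻¹) * u) := by group
      _ = g * z * g⁻¹ := by rw [← h3]; group
  refine ⟨⟨hU, ?_, ?_, ?_⟩, hinj⟩
  · rintro ⟨_, c, rfl⟩ ⟨_, d, rfl⟩
    refine Subtype.ext ?_
    change dHom S hodd c * dHom S hodd d = dHom S hodd d * dHom S hodd c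
    rw [← map_mul, ← map_mul]
    exact congrArg _ (Subtype.ext ((S.D_abelian hodd).1 c c.2 d d.2))
  · obtain ⟨d, hd, hd1⟩ := S.exists_D_ne_one
    have hz1 : z ≠ 1 := fun e => by rw [e, orderOf_one] at hzo; omega
    have hz2 : z * z = 1 := by rw [← sq, ← hzo, pow_orderOf_eq_one]
    refine ⟨z, dHom S hodd ⟨d, hd⟩ z, fun e => hd1 (congrArg Subtype.val (hfix _ z hz1 e.symm)), hz1,
      hz2, fun e => hz1 ((dHom S hodd ⟨d, hd⟩).injective (e.trans (map_one _).symm)), ?_⟩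
    rw [← map_mul, hz2, map_one]
  · intro x y hx hx2 hy hy2
    obtain ⟨c, hc⟩ := htrans x hx hx2
    obtain ⟨d, hd⟩ := htrans y hy hy2
    refine ⟨⟨dHom S hodd (d * c⁻¹), _, rfl⟩, ?_, ?_⟩
    · show dHom S hodd (d * c⁻¹) x = y
      rw [← hc, ← MulAut.mul_apply, ← map_mul, inv_mul_cancel_right]
      exact hd
    · rintro ⟨_, e, rfl⟩ he
      refine Subtype.ext (congrArg (dHom S hodd) ?_)
      change dHom S hodd e x = y at he
      rw [← hc, ← MulAut.mul_apply, ← map_mul, ← hd] at he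
      have h1 : dHom S hodd (d⁻¹ * (e * c)) z = z := by
        rw [map_mul, MulAut.mul_apply, he, ← MulAut.mul_apply, ← map_mul, inv_mul_cancel, map_one,
          MulAut.one_apply]
      have h2 := hfix _ z (fun e => by rw [e, orderOf_one] at hzo; omega) h1
      rw [eq_mul_inv_iff_mul_eq]
      exact (inv_mul_eq_one.1 h2).symm

/-- The involutions of the kernel and the identity: `e + 1` elements. -/
theorem coord_data (hU : IsPGroup 2 S.H) (hodd : Odd S.e) :
    ∃ n, 2 ≤ n ∧ S.e + 1 = 2 ^ n ∧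
      Nat.card (Suzuki.omega (suzuki_setup S hU hodd).1) = 2 ^ n ∧ IsCyclic S.D := by
  haveI : Fact (Nat.Prime 2) := ⟨Nat.prime_two⟩
  set hS := (suzuki_setup S hU hodd).1
  obtain ⟨F, _, _, _, ⟨C⟩⟩ := Suzuki.exists_coord hS
  have hcard : Nat.card (Suzuki.omega hS) = Nat.card F :=
    Nat.card_eq_of_bijective (fun w : Suzuki.omega hS => C.χ w)
      ⟨fun a c h => Subtype.ext (C.inj a.2 c.2 h), fun u => by
        obtain ⟨x, hx, hxu⟩ := C.surj u
        exact ⟨⟨x, hx⟩, hxu⟩⟩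
  have eD : S.D ≃* Fˣ := (MonoidHom.ofInjective (suzuki_setup S hU hodd).2).trans C.c
  have he : S.e + 1 = Nat.card F := by
    have : S.e = Nat.card F - 1 := by
      rw [H39.ZSetup.e, Nat.card_congr eD.toEquiv, Nat.card_units]
    have : 0 < Nat.card F := Nat.card_pos
    omega
  obtain ⟨n, hn⟩ := IsPGroup.iff_card.1 (hU.to_subgroup (Suzuki.omega hS))
  refine ⟨n, ?_, by rw [he, ← hcard, hn], hn, isCyclic_of_surjective eD.symm eD.symm.surjective⟩
  have h2 := S.two_le_e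
  by_contra hlt
  have : 2 ^ n ≤ 2 ^ 1 := Nat.pow_le_pow_right (by norm_num) (by omega)
  omega

/-- If `3` divides `e`, the degree is not `q² + 1`. -/
theorem three_false (hU : IsPGroup 2 S.H) (hodd : Odd S.e) {n : ℕ} (hn : 2 ≤ n)
    (he : S.e + 1 = 2 ^ n) (hh : S.h = (2 ^ n) ^ 2)
    (hcard : Nat.card (Suzuki.omega (suzuki_setup S hU hodd).1) = 2 ^ n) : ¬ 3 ∣ S.e := by
  intro h3
  haveI : Fact (Nat.Prime 3) := ⟨Nat.prime_three⟩
  set hS := (suzuki_setup S hU hodd).1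
  set Z := Suzuki.omega hS with hZ
  obtain ⟨⟨x, hxD⟩, hxo⟩ := exists_prime_orderOf_dvd_card' (G := S.D) 3 h3
  rw [Subgroup.orderOf_mk] at hxo
  have hw := S.swapper hodd S.w_a S.w_b
  have hwo : orderOf S.w = 2 := (S.swapper_iff hodd).2 ⟨S.w_a, S.w_b⟩ |>.1
  have hwxo : orderOf (S.w * x) = 2 := ((S.swapper_iff hodd).2
    ⟨by rw [mul_smul, hxD.1, S.w_a], by rw [mul_smul, hxD.2, S.w_b]⟩).1
  obtain ⟨he', -, -⟩ := kernel_two S hU
  have hfx := S.card_fixedBy_involution hodd hwo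
  rw [if_pos he'] at hfx
  obtain ⟨⟨c₀, hc₀⟩⟩ := (Nat.card_eq_one_iff_unique.1 hfx).2
  haveI : IsPretransitive G Ω := S.Z.transitive
  obtain ⟨g, hg⟩ := exists_smul_eq G c₀ S.a
  obtain ⟨s, hs⟩ : ∃ s, s = g * S.w * g⁻¹ := ⟨_, rfl⟩
  obtain ⟨r', hr'⟩ : ∃ r', r' = g * (S.w * x) * g⁻¹ := ⟨_, rfl⟩
  have hso : orderOf s = 2 := by rw [hs, ← MulAut.conj_apply, MulEquiv.orderOf_eq, hwo]
  have hr'o : orderOf r' = 2 := by rw [hr', ← MulAut.conj_apply, MulEquiv.orderOf_eq, hwxo]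
  have hsa : s • S.a = S.a := by
    rw [hs, mul_smul, mul_smul, inv_smul_eq_iff.2 hg.symm, show S.w • c₀ = c₀ from hc₀, hg]
  have hsH := involution_mem_H S hodd hso hsa
  have hww : S.w * S.w = 1 := by rw [← sq, ← hwo, pow_orderOf_eq_one]
  have hsr : s * r' = g * x * g⁻¹ := by
    rw [hs, hr']
    calc g * S.w * g⁻¹ * (g * (S.w * x) * g⁻¹) = g * (S.w * S.w * x) * g⁻¹ := by group
      _ = _ := by rw [hww, one_mul]
  have hsr3 : orderOf (s * r') = 3 := by
    rw [hsr, ← MulAut.conj_apply, MulEquiv.orderOf_eq, hxo]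
  have hr'a : r' • S.a ≠ S.a := by
    intro h
    obtain ⟨j, hj⟩ := IsPGroup.iff_orderOf.1 hU ⟨s * r', mul_mem hsH (involution_mem_H S hodd hr'o h)⟩
    rw [Subgroup.orderOf_mk, hsr3] at hj
    have h32 : (3 : ℕ) ∣ 2 ^ j := hj ▸ dvd_rfl
    exact absurd (Nat.prime_three.dvd_of_dvd_pow h32) (by norm_num)
  obtain ⟨u, hu, hub⟩ := S.exists_H_smul_b hr'a
  obtain ⟨r, hr⟩ : ∃ r, r = u⁻¹ * r' * u := ⟨_, rfl⟩
  have hs2 : s * s = 1 := by rw [← sq, ← hso, pow_orderOf_eq_one]
  have hsZ : (⟨s, hsH⟩ : S.H) ∈ Z := Subtype.ext hs2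
  have hcent : ∀ w ∈ S.H, w * s = s * w := fun w hw =>
    congrArg Subtype.val (Subgroup.mem_center_iff.1 (Suzuki.omega_le_center hS hsZ) ⟨w, hw⟩)
  have hra : r • S.a = S.b := by
    rw [hr, mul_smul, mul_smul, S.hHa hu, ← hub, inv_smul_smul]
  have hro : orderOf r = 2 := by
    rw [hr, show u⁻¹ * r' * u = MulAut.conj u⁻¹ r' by simp, MulEquiv.orderOf_eq, hr'o]
  have hrb : r • S.b = S.a := by rw [← hra]; exact H39.involution_smul_smul hro _
  have hr2 : r * r = 1 := by rw [← sq, ← hro, pow_orderOf_eq_one]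
  have hord : orderOf (s * r) = 3 := by
    rw [hr, ← hsr3, ← MulEquiv.orderOf_eq (MulAut.conj u⁻¹) (s * r'), MulAut.conj_apply, inv_inv]
    congr 1
    calc s * (u⁻¹ * r' * u) = (s * u⁻¹) * r' * u := by group
      _ = _ := by rw [← hcent _ (inv_mem hu)]; group
  have hbraid : s * r * s = r * s * r := by
    have h := pow_orderOf_eq_one (s * r)
    rw [hord, pow_succ, sq] at h
    have h' : s * r * s * (r * s * r) = 1 := by rw [← h]; group
    rw [mul_eq_one_iff_eq_inv] at h'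
    rw [h', mul_inv_rev, mul_inv_rev, inv_eq_of_mul_eq_one_right hs2,
      inv_eq_of_mul_eq_one_right hr2, mul_assoc]
  have hrfix : r • (s • S.b) = s • S.b := by
    have h := congrArg (fun k : G => k • S.a) hbraid
    simp only [mul_smul, hsa, hra] at h
    exact h.symm
  have hrinv : ∀ d ∈ S.D, r * d * r⁻¹ = d⁻¹ := (S.swapper hodd hra hrb).2.2
  -- the invariant set
  set T : Set Ω := insert S.a ((fun z : Z => ((z : S.H) : G) • S.b) '' Set.univ) with hT
  have hmemT : ∀ z : S.H, z ∈ Z → (z : G) • S.b ∈ T := fun z hz =>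
    Or.inr ⟨⟨z, hz⟩, trivial, rfl⟩
  set gens : Set G := ((fun z : Z => ((z : S.H) : G)) '' Set.univ) ∪ (S.D : Set G) ∪ {r}
  set L := Subgroup.closure gens with hL
  have hDZ : ∀ d ∈ S.D, ∀ z : S.H, z ∈ Z → ∃ z' ∈ Z, (z' : G) = d * z * d⁻¹ := fun d hd z hz =>
    ⟨dHom S hodd ⟨d, hd⟩ z, by
      change dHom S hodd ⟨d, hd⟩ z * dHom S hodd ⟨d, hd⟩ z = 1
      rw [← map_mul, show z * z = 1 from hz, map_one], coe_dHom S hodd ⟨d, hd⟩ z⟩
  have hDT : ∀ d ∈ S.D, ∀ z : S.H, z ∈ Z → d • ((z : G) • S.b) ∈ T := fun d hd z hz => by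
    obtain ⟨z', hz', e⟩ := hDZ d hd z hz
    have := hmemT z' hz'
    rwa [e, mul_smul, mul_smul, inv_smul_eq_iff.2 hd.2.symm] at this
  have hsub : ∀ k ∈ gens, ∀ y ∈ T, k • y ∈ T := by
    rintro k ((⟨z, -, rfl⟩ | hk) | hk) y (rfl | ⟨z', -, rfl⟩)
    · exact Or.inl (S.hHa (z : S.H).2)
    · have := hmemT ((z : S.H) * z') (mul_mem z.2 z'.2)
      rwa [Subgroup.coe_mul, mul_smul] at this
    · exact Or.inl hk.1
    · exact hDT k hk z' z'.2
    · rw [Set.mem_singleton_iff.1 hk, hra]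
      have := hmemT 1 (one_mem _)
      rwa [Subgroup.coe_one, one_smul] at this
    · rw [Set.mem_singleton_iff.1 hk]
      change r • ((z' : S.H) : G) • S.b ∈ T
      by_cases hz1 : (z' : S.H) = 1
      · rw [hz1, Subgroup.coe_one, one_smul, hrb]
        exact Or.inl rfl
      obtain ⟨⟨_, d, rfl⟩, hd, -⟩ := hS.regular (⟨s, hsH⟩ : S.H) z'
        (fun e => by
          have e' : s = 1 := congrArg (fun w : S.H => (w : G)) e
          rw [e', orderOf_one] at hso
          omega)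
        hsZ hz1 z'.2
      change dHom S hodd d _ = _ at hd
      have e : ((z' : S.H) : G) = d * s * (d : G)⁻¹ := by rw [← hd, coe_dHom]
      have hrd : r * (d : G) = (d : G)⁻¹ * r := by rw [← hrinv d d.2]; group
      rw [e, mul_smul, mul_smul, inv_smul_eq_iff.2 d.2.2.symm, ← mul_smul, hrd, mul_smul, hrfix]
      exact hDT _ (inv_mem d.2) ⟨s, hsH⟩ hsZ
  have hinvT : L ≤ stabilizer G T := by
    rw [hL, Subgroup.closure_le]
    intro k hk
    refine MulAction.mem_stabilizer_iff.2 (Set.eq_of_subset_of_ncard_le ?_ (le_of_eq ?_) T.toFinite)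
    · rintro _ ⟨y, hy, rfl⟩
      exact hsub k hk y hy
    · exact (Set.ncard_image_of_injective T (MulAction.injective k)).symm
  have horb : orbit L S.a = T := by
    refine Set.Subset.antisymm ?_ ?_
    · rintro _ ⟨⟨k, hk⟩, rfl⟩
      have := hinvT hk
      rw [MulAction.mem_stabilizer_iff] at this
      rw [← this]
      exact Set.smul_mem_smul_set (Or.inl rfl)
    · rintro y (rfl | ⟨z, -, rfl⟩)
      · exact mem_orbit_self _
      · refine ⟨⟨((z : S.H) : G) * r, mul_mem (Subgroup.subset_closure (Or.inl (Or.inl ⟨z, trivial, rfl⟩)))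
          (Subgroup.subset_closure (Or.inr rfl))⟩, ?_⟩
        change (((z : S.H) : G) * r) • S.a = _
        rw [mul_smul, hra]
  have hTcard : T.ncard = 2 ^ n + 1 := by
    rw [hT, Set.ncard_insert_of_notMem, Set.ncard_image_of_injective, Set.ncard_univ, hcard]
    · intro z z' h
      simp only at h
      refine Subtype.ext (Subtype.ext ?_)
      obtain ⟨u', -, huq⟩ := S.H_regular (y := S.b) (z := ((z : S.H) : G) • S.b) S.hab.symm
        (S.smul_b_ne_a (S.hHa (z : S.H).2))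
      exact congrArg (fun w : S.H => (w : G)) ((huq _ rfl).trans (huq _ h.symm).symm)
    · rintro ⟨z, -, h⟩
      exact S.smul_b_ne_a (S.hHa (z : S.H).2) h
  have hdvd : 2 ^ n + 1 ∣ Nat.card G := by
    rw [← hTcard, ← horb, ← Nat.card_coe_set_eq]
    refine dvd_trans ?_ (Subgroup.card_subgroup_dvd_card L)
    rw [Nat.card_congr (orbitEquivQuotientStabilizer L S.a)]
    exact Subgroup.card_quotient_dvd_card _
  rw [S.card_G, hh] at hdvd
  have hdvd' : ((2 : ℤ) ^ n + 1) ∣ (((2 : ℤ) ^ n) ^ 2 + 1) * ((2 : ℤ) ^ n) ^ 2 * S.e := by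
    exact_mod_cast hdvd
  have heq : (S.e : ℤ) = 2 ^ n - 1 := by
    have : (S.e : ℤ) + 1 = 2 ^ n := by exact_mod_cast he
    omega
  rw [heq] at hdvd'
  set q : ℤ := 2 ^ n
  have hd4 : q + 1 ∣ 4 := by
    have h1 : (q + 1) ∣ (q ^ 2 + 1) * q ^ 2 * (q - 1) + 4 :=
      ⟨q ^ 4 - 2 * q ^ 3 + 3 * q ^ 2 - 4 * q + 4, by ring⟩
    have := dvd_sub h1 hdvd'
    rwa [add_sub_cancel_left] at this
  have := Int.le_of_dvd (by norm_num) hd4
  have h4 : (4 : ℤ) ≤ q := by
    calc (4 : ℤ) = 2 ^ 2 := by norm_num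
      _ ≤ 2 ^ n := pow_le_pow_right₀ (by norm_num) hn
  omega

/-- The structure of a simple Zassenhaus group with non-abelian 2-kernel. -/
theorem nonabelian_kernel (hU : IsPGroup 2 S.H) (hne : ∃ x y : S.H, x * y ≠ y * x) :
    ∃ n : ℕ, Odd n ∧ 1 < n ∧ S.h = 2 ^ (2 * n) ∧ IsCyclic S.D ∧ S.e = 2 ^ n - 1 ∧
      ∃ (F : Type) (_ : Field F) (_ : Fintype F) (φ : F ≃+* F), Fintype.card F = 2 ^ n ∧
        Nonempty (S.H ≃* Cfsg.suzukiTypeA F (φ : F →+* F)) := by
  have := Fintype.ofFinite G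
  have hodd := odd_e S hU
  obtain ⟨n, hn, he, hcard, hcyc⟩ := coord_data S hU hodd
  set hS := (suzuki_setup S hU hodd).1
  have hc : Nat.card (Subgroup.center S.H) = 2 ^ n := by
    rw [← Suzuki.omega_eq_center hS hne]; exact hcard
  have hsq : S.h = (2 ^ n) ^ 2 := by
    rcases Suzuki.card_eq hS hne with h | h
    · rw [H39.ZSetup.h, h, hc]
    exfalso
    have hq := Suzuki.quotient_elementary hS hne
    have hle : commutator S.H ≤ Suzuki.omega hS := by
      rw [commutator_def, Subgroup.commutator_le]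
      intro g _ y _
      rw [commutatorElement_def]
      exact (hq y g).2
    obtain ⟨g, y, hgy⟩ := hne
    have hne1 : g * y * g⁻¹ * y⁻¹ ≠ 1 := fun e => hgy (by
      rwa [mul_inv_eq_one, mul_inv_eq_iff_eq_mul] at e)
    have hge : Suzuki.omega hS ≤ commutator S.H := by
      intro w hw
      rcases eq_or_ne w 1 with rfl | hw1
      · exact one_mem _
      obtain ⟨k, hk, -⟩ := hS.regular _ w hne1 (hq y g).2 hw1 hw
      rw [← hk, map_mul, map_mul, map_mul, map_inv, map_inv, ← commutatorElement_def, commutator_def]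
      exact Subgroup.commutator_mem_commutator (Subgroup.mem_top _) (Subgroup.mem_top _)
    have heq : commutator S.H = Suzuki.omega hS := le_antisymm hle hge
    refine cube_false S hodd hn (by rw [H39.ZSetup.h, h, hc]) he ?_
      ⟨_, heq ▸ (hq y g).2, hne1⟩
    have := Subgroup.index_mul_card (commutator S.H)
    rw [heq, hcard, h, hc] at this
    refine Nat.eq_of_mul_eq_mul_right (Nat.two_pow_pos n) ?_
    rw [heq, this]; ring
  have hn_odd : Odd n := by
    by_contra hev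
    obtain ⟨j, rfl⟩ := Nat.not_odd_iff_even.1 hev
    refine three_false S hU hodd hn he hsq hcard ?_
    have h4 : (4 : ℕ) ^ j = 2 ^ (j + j) := by rw [pow_add, ← mul_pow]; norm_num
    have : S.e = 4 ^ j - 1 := by omega
    rw [this]
    simpa using Nat.sub_dvd_pow_sub_pow 4 1 j
  obtain ⟨F, iF, iFin, φ, hF, -, -, hiso⟩ := Suzuki.typeA hS hne (by rw [hc]; exact hsq)
  exact ⟨n, hn_odd, by omega, by rw [hsq]; ring, hcyc, by omega, F, iF, iFin, φ, hF.trans hc, hiso⟩

/-- An abelian 2-kernel is elementary. -/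
theorem abelian_kernel_elementary (hU : IsPGroup 2 S.H) (hcomm : ∀ x y : S.H, x * y = y * x) :
    ∀ x : S.H, x * x = 1 := by
  have := Fintype.ofFinite G
  have hodd := odd_e S hU
  obtain ⟨n, -, he, hcard, -⟩ := coord_data S hU hodd
  obtain ⟨-, -, m, hm⟩ := kernel_two S hU
  set hS := (suzuki_setup S hU hodd).1
  intro x
  by_contra hx
  have hlt : Nat.card (Suzuki.omega hS) < S.h := by
    refine lt_of_le_of_ne (Nat.le_of_dvd Nat.card_pos (Subgroup.card_subgroup_dvd_card _)) fun e => hx ?_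
    exact ((Subgroup.card_eq_iff_eq_top _).1 e ▸ Subgroup.mem_top x : x ∈ Suzuki.omega hS)
  rw [hcard, hm] at hlt
  exact abelian_false S hodd hm he ((Nat.pow_lt_pow_iff_right (by norm_num)).1 hlt) hcomm

end Cfsg.Agent.H48.Zass
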