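import Mathlib

/-!
# Integer vectors with the inner products of a coherent family
-/

set_option autoImplicit false

namespace Cfsg.Agent.H48.Zass

open Finset

variable {α : Type*} [DecidableEq α]

/-- An integer vector of norm two orthogonal to a positive vector is a difference of two unit
vectors. -/
theorem norm_two (R : Finset α) (d W : α → ℤ) (h2 : ∑ χ ∈ R, d χ * d χ = 2)
    (hW : ∀ χ ∈ R, 0 < W χ) (h0 : ∑ χ ∈ R, W χ * d χ = 0) :
    ∃ a ∈ R, ∃ b ∈ R, a ≠ b ∧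
      ∀ χ ∈ R, d χ = (if χ = a then 1 else 0) - (if χ = b then 1 else 0) := by
  have hsm : ∀ χ ∈ R, d χ ≠ 0 → d χ * d χ = 1 := by
    intro χ hχ hne
    have h := single_le_sum (f := fun χ => d χ * d χ) (fun i _ => mul_self_nonneg (d i)) hχ
    simp only [h2] at h
    have : -1 ≤ d χ ∧ d χ ≤ 1 := ⟨by nlinarith, by nlinarith⟩
    rcases (by omega : d χ = -1 ∨ d χ = 1) with e | e <;> simp [e]
  have hs : (R.filter fun χ => d χ ≠ 0).card = 2 := by
    have : ∑ χ ∈ R.filter (fun χ => d χ ≠ 0), d χ * d χ = 2 := by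
      refine Eq.trans ?_ h2
      exact sum_filter_of_ne (fun χ _ h e => h (by rw [e, mul_zero]))
    rw [sum_congr rfl (g := fun _ => (1 : ℤ))
      (fun χ hχ => hsm χ (mem_filter.1 hχ).1 (mem_filter.1 hχ).2), sum_const, nsmul_one] at this
    exact_mod_cast this
  obtain ⟨x, y, hxy, hset⟩ := card_eq_two.1 hs
  have hx' : x ∈ R.filter fun χ => d χ ≠ 0 := by rw [hset]; simp
  have hx : x ∈ R ∧ d x ≠ 0 := mem_filter.1 hx'
  have hy' : y ∈ R.filter fun χ => d χ ≠ 0 := by rw [hset]; simp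
  have hy : y ∈ R ∧ d y ≠ 0 := mem_filter.1 hy'
  have hz : ∀ χ ∈ R, χ ≠ x → χ ≠ y → d χ = 0 := by
    intro χ hχ h1 h2
    by_contra h
    have : χ ∈ R.filter fun χ => d χ ≠ 0 := mem_filter.2 ⟨hχ, h⟩
    rw [hset] at this
    simp [h1, h2] at this
  have hsum : W x * d x + W y * d y = 0 := by
    rw [← h0, ← sum_filter_of_ne (p := fun χ => d χ ≠ 0)
      (fun χ _ h e => h (by rw [e, mul_zero])), hset, sum_pair hxy]
  have hWx := hW x hx.1
  have hWy := hW y hy.1
  rcases mul_self_eq_one_iff.1 (hsm x hx.1 hx.2) with e | e <;>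
    rcases mul_self_eq_one_iff.1 (hsm y hy.1 hy.2) with e' | e' <;> rw [e, e'] at hsum
  · omega
  · refine ⟨x, hx.1, y, hy.1, hxy, fun χ hχ => ?_⟩
    rcases eq_or_ne χ x with rfl | h1
    · simp [e, hxy]
    rcases eq_or_ne χ y with rfl | h2
    · simp [e', hxy.symm]
    simp [h1, h2, hz χ hχ h1 h2]
  · refine ⟨y, hy.1, x, hx.1, hxy.symm, fun χ hχ => ?_⟩
    rcases eq_or_ne χ x with rfl | h1
    · simp [e, hxy]
    rcases eq_or_ne χ y with rfl | h2
    · simp [e', hxy.symm]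
    simp [h1, h2, hz χ hχ h1 h2]
  · omega

/-- A coherent family: vectors with inner products `k + δ` orthogonal modulo constants to a
positive vector have the form `c + e x`. -/
theorem star (R : Finset α) (k : ℤ) (I : Finset (α → ℤ)) (W : α → ℤ) (C : ℤ)
    (h3 : 3 ≤ I.card) (hk : k + 2 < I.card) (hnn : ∀ v ∈ I, ∀ χ ∈ R, 0 ≤ v χ)
    (h1 : ∀ v ∈ I, ∑ χ ∈ R, v χ * v χ = k + 1)
    (h0 : ∀ v ∈ I, ∀ v' ∈ I, v ≠ v' → ∑ χ ∈ R, v χ * v' χ = k)
    (hW : ∀ χ ∈ R, 0 < W χ) (hWv : ∀ v ∈ I, ∑ χ ∈ R, W χ * v χ = C) :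
    ∃ c : α → ℤ, ∃ x : (α → ℤ) → α, (∀ v ∈ I, x v ∈ R ∧ c (x v) = 0) ∧ Set.InjOn x I ∧
      (∀ v ∈ I, ∀ χ ∈ R, v χ = c χ + (if χ = x v then 1 else 0)) ∧
      (∀ χ ∈ R, 0 ≤ c χ) ∧ ∑ χ ∈ R, c χ * c χ = k := by
  classical
  obtain ⟨v₀, hv₀⟩ := card_pos.1 (show 0 < I.card by omega)
  have hnorm : ∀ v ∈ I, v ≠ v₀ → ∑ χ ∈ R, (v χ - v₀ χ) * (v χ - v₀ χ) = 2 := by
    intro v hv hne
    have : ∀ χ, (v χ - v₀ χ) * (v χ - v₀ χ) = v χ * v χ - 2 * (v χ * v₀ χ) + v₀ χ * v₀ χ :=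
      fun χ => by ring
    simp only [this, sum_add_distrib, sum_sub_distrib, ← mul_sum, h1 v hv, h1 v₀ hv₀,
      h0 v hv v₀ hv₀ hne]
    ring
  have horth : ∀ v ∈ I, ∑ χ ∈ R, W χ * (v χ - v₀ χ) = 0 := fun v hv => by
    simp only [mul_sub, sum_sub_distrib, hWv v hv, hWv v₀ hv₀, sub_self]
  obtain ⟨hne⟩ : Nonempty α := by
    by_contra hc
    have : R = ∅ := eq_empty_of_forall_notMem fun χ _ => hc ⟨χ⟩
    obtain ⟨v, hv, hv'⟩ : ∃ v ∈ I, v ≠ v₀ := exists_mem_ne (by omega) v₀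
    have := hnorm v hv hv'
    simp_all
  have hab : ∀ v, ∃ a b : α, v ∈ I → v ≠ v₀ → a ∈ R ∧ b ∈ R ∧ a ≠ b ∧
      ∀ χ ∈ R, v χ - v₀ χ = (if χ = a then 1 else 0) - (if χ = b then 1 else 0) := by
    intro v
    by_cases h : v ∈ I ∧ v ≠ v₀
    · obtain ⟨a, ha, b, hb, hne', he⟩ :=
        norm_two R (fun χ => v χ - v₀ χ) W (hnorm v h.1 h.2) hW (horth v h.1)
      exact ⟨a, b, fun _ _ => ⟨ha, hb, hne', he⟩⟩
    · exact ⟨hne, hne, fun h' h'' => absurd ⟨h', h''⟩ h⟩
  choose a b hab using hab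
  set J := I.erase v₀ with hJ
  have hJI : ∀ v ∈ J, v ∈ I ∧ v ≠ v₀ := fun v hv => ⟨(mem_erase.1 hv).2, (mem_erase.1 hv).1⟩
  have hpair : ∀ v ∈ J, ∀ v' ∈ J, v ≠ v' →
      (a v = a v' ∧ b v ≠ b v') ∨ (a v ≠ a v' ∧ b v = b v') := by
    intro v hv v' hv' hne'
    obtain ⟨hv, hvn⟩ := hJI v hv
    obtain ⟨hv', hvn'⟩ := hJI v' hv'
    obtain ⟨ha, hb, hd, he⟩ := hab v hv hvn
    obtain ⟨ha', hb', hd', he'⟩ := hab v' hv' hvn'
    have hdot : ∑ χ ∈ R, (v χ - v₀ χ) * (v' χ - v₀ χ) = 1 := by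
      have : ∀ χ, (v χ - v₀ χ) * (v' χ - v₀ χ) =
          v χ * v' χ - v χ * v₀ χ - v' χ * v₀ χ + v₀ χ * v₀ χ := fun χ => by ring
      simp only [this, sum_add_distrib, sum_sub_distrib, h0 v hv v' hv' hne',
        h0 v hv v₀ hv₀ hvn, h0 v' hv' v₀ hv₀ hvn', h1 v₀ hv₀]
      ring
    rw [sum_congr rfl (g := fun χ => ((if χ = a v then (1 : ℤ) else 0) - (if χ = b v then 1 else 0)) *
      ((if χ = a v' then 1 else 0) - (if χ = b v' then 1 else 0)))
      (fun χ hχ => by rw [he χ hχ, he' χ hχ])] at hdot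
    simp only [sub_mul, sum_sub_distrib, ite_mul, one_mul, zero_mul, sum_ite_eq', ha, hb,
      if_true] at hdot
    split_ifs at hdot with e1 e2 e3 e4 <;> simp_all
  have hline : (∀ v ∈ J, ∀ v' ∈ J, a v = a v') ∨ (∀ v ∈ J, ∀ v' ∈ J, b v = b v') := by
    by_contra hc
    push Not at hc
    obtain ⟨⟨v, hv, v', hv', hne'⟩, u, hu, u', hu', hbne⟩ := hc
    have hb : b v = b v' := by
      rcases hpair v hv v' hv' (fun e => hne' (by rw [e])) with h | h
      · exact absurd h.1 hne'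
      · exact h.2
    have key : ∀ u ∈ J, b u = b v := by
      intro u hu
      rcases eq_or_ne u v with rfl | huv
      · rfl
      rcases hpair u hu v hv huv with h | h
      · rcases eq_or_ne u v' with rfl | huv'
        · exact hb.symm
        rcases hpair u hu v' hv' huv' with h' | h'
        · exact absurd (h.1.symm.trans h'.1) hne'
        · exact h'.2.trans hb.symm
      · exact h.2
    exact hbne ((key u hu).trans (key u' hu').symm)
  obtain ⟨v₁, hv₁⟩ : J.Nonempty := card_pos.1 (by rw [hJ, card_erase_of_mem hv₀]; omega)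
  obtain ⟨σ, hσ, c, x, hxR, hinj, hval⟩ : ∃ σ : ℤ, (σ = 1 ∨ σ = -1) ∧ ∃ c : α → ℤ,
      ∃ x : (α → ℤ) → α, (∀ v ∈ I, x v ∈ R) ∧ Set.InjOn x I ∧
      ∀ v ∈ I, ∀ χ ∈ R, v χ = c χ + σ * (if χ = x v then 1 else 0) := by
    rcases hline with h | h
    · refine ⟨-1, Or.inr rfl, fun χ => v₀ χ + (if χ = a v₁ then 1 else 0),
        fun v => if v = v₀ then a v₁ else b v, fun v hv => ?_, ?_, fun v hv χ hχ => ?_⟩
      · dsimp only
        split_ifs with e
        · exact (hab v₁ (hJI v₁ hv₁).1 (hJI v₁ hv₁).2).1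
        · exact (hab v hv e).2.1
      · intro v hv v' hv' e
        simp only [mem_coe] at hv hv'
        by_contra hne'
        simp only at e
        split_ifs at e with e1 e2 e2
        · exact hne' (e1.trans e2.symm)
        · have := hab v' hv' e2
          exact this.2.2.1 ((h v' (mem_erase.2 ⟨e2, hv'⟩) v₁ hv₁).trans e)
        · have := hab v hv e1
          exact this.2.2.1 ((h v (mem_erase.2 ⟨e1, hv⟩) v₁ hv₁).trans e.symm)
        · rcases hpair v (mem_erase.2 ⟨e1, hv⟩) v' (mem_erase.2 ⟨e2, hv'⟩) hne' with h' | h'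
          · exact h'.2 e
          · exact h'.1 (h v (mem_erase.2 ⟨e1, hv⟩) v' (mem_erase.2 ⟨e2, hv'⟩))
      · dsimp only
        by_cases e : v = v₀
        · simp only [e, if_true]
          split_ifs <;> ring
        · have := (hab v hv e).2.2.2 χ hχ
          simp only [if_neg e]
          rw [← h v (mem_erase.2 ⟨e, hv⟩) v₁ hv₁]
          linear_combination this
    · refine ⟨1, Or.inl rfl, fun χ => v₀ χ - (if χ = b v₁ then 1 else 0),
        fun v => if v = v₀ then b v₁ else a v, fun v hv => ?_, ?_, fun v hv χ hχ => ?_⟩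
      · dsimp only
        split_ifs with e
        · exact (hab v₁ (hJI v₁ hv₁).1 (hJI v₁ hv₁).2).2.1
        · exact (hab v hv e).1
      · intro v hv v' hv' e
        simp only [mem_coe] at hv hv'
        by_contra hne'
        simp only at e
        split_ifs at e with e1 e2 e2
        · exact hne' (e1.trans e2.symm)
        · have := hab v' hv' e2
          exact this.2.2.1 (e.symm.trans (h v' (mem_erase.2 ⟨e2, hv'⟩) v₁ hv₁).symm)
        · have := hab v hv e1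
          exact this.2.2.1 (e.trans (h v (mem_erase.2 ⟨e1, hv⟩) v₁ hv₁).symm)
        · rcases hpair v (mem_erase.2 ⟨e1, hv⟩) v' (mem_erase.2 ⟨e2, hv'⟩) hne' with h' | h'
          · exact h'.2 (h v (mem_erase.2 ⟨e1, hv⟩) v' (mem_erase.2 ⟨e2, hv'⟩))
          · exact h'.1 e
      · dsimp only
        by_cases e : v = v₀
        · simp only [e, if_true]
          split_ifs <;> ring
        · have := (hab v hv e).2.2.2 χ hχ
          simp only [if_neg e]
          rw [← h v (mem_erase.2 ⟨e, hv⟩) v₁ hv₁]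
          linear_combination this
  -- evaluate the inner products
  have hσ2 : σ * σ = 1 := by rcases hσ with rfl | rfl <;> rfl
  have hdot : ∀ v ∈ I, ∀ v' ∈ I, ∑ χ ∈ R, v χ * v' χ =
      ∑ χ ∈ R, c χ * c χ + σ * c (x v) + σ * c (x v') + (if x v = x v' then 1 else 0) := by
    intro v hv v' hv'
    have hexp : ∀ χ ∈ R, v χ * v' χ = c χ * c χ + (if χ = x v then σ * c χ else 0) +
        (if χ = x v' then σ * c χ else 0) +
        (if χ = x v then (if χ = x v' then 1 else 0) else 0) := fun χ hχ => by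
      rw [hval v hv χ hχ, hval v' hv' χ hχ]
      split_ifs <;> first | ring1 | linear_combination hσ2
    rw [sum_congr rfl hexp, sum_add_distrib, sum_add_distrib, sum_add_distrib, sum_ite_eq',
      sum_ite_eq', sum_ite_eq', if_pos (hxR v hv), if_pos (hxR v' hv'), if_pos (hxR v hv)]
  set S := ∑ χ ∈ R, c χ * c χ with hS
  have hm : ∀ v ∈ I, S + 2 * (σ * c (x v)) = k := by
    intro v hv
    have := hdot v hv v hv
    rw [h1 v hv, if_pos rfl] at this
    linarith
  set m := c (x v₀) with hmdef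
  have heq : ∀ v ∈ I, c (x v) = m := by
    intro v hv
    have h := (hm v hv).trans (hm v₀ hv₀).symm
    rcases hσ with rfl | rfl <;> omega
  have hle : (I.card : ℤ) * (m * m) ≤ S := by
    have h2 : ∑ χ ∈ I.image x, c χ * c χ ≤ S :=
      sum_le_sum_of_subset_of_nonneg (image_subset_iff.2 hxR) (fun χ _ _ => mul_self_nonneg (c χ))
    rw [sum_image hinj, sum_congr rfl (g := fun _ => m * m) (fun v hv => by rw [heq v hv]),
      sum_const, nsmul_eq_mul] at h2
    exact_mod_cast h2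
  have hm0 : m = 0 := by
    by_contra hm0
    have h2 := hm v₀ hv₀
    have hmm : 1 ≤ m * m := by
      rcases lt_or_gt_of_ne hm0 with h | h <;> nlinarith
    have hI : ((I.card : ℤ) - 2) * (m * m) ≥ ((I.card : ℤ) - 2) * 1 :=
      mul_le_mul_of_nonneg_left hmm (by omega)
    have hsg : 2 * (σ * m) ≥ -(2 * (m * m)) := by
      rcases hσ with rfl | rfl <;> nlinarith
    nlinarith
  have hσ1 : σ = 1 := by
    rcases hσ with rfl | rfl
    · rfl
    · have := hnn v₀ hv₀ _ (hxR v₀ hv₀)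
      rw [hval v₀ hv₀ _ (hxR v₀ hv₀), if_pos rfl, ← hmdef, hm0] at this
      norm_num at this
  subst hσ1
  refine ⟨c, x, fun v hv => ⟨hxR v hv, (heq v hv).trans hm0⟩, hinj,
    fun v hv χ hχ => by rw [hval v hv χ hχ, one_mul], fun χ hχ => ?_, ?_⟩
  · obtain ⟨v, hv, hne'⟩ : ∃ v ∈ I, x v ≠ χ := by
      obtain ⟨v, hv, hv'⟩ := exists_mem_ne (show 1 < I.card by omega) v₀
      by_contra hcon
      push Not at hcon
      exact hv' (hinj hv hv₀ ((hcon v hv).trans (hcon v₀ hv₀).symm))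
    have := hnn v hv χ hχ
    rwa [hval v hv χ hχ, if_neg (Ne.symm hne'), mul_zero, add_zero] at this
  · have := hm v₀ hv₀
    rw [← hmdef, hm0] at this
    linarith

/-- The vector of a further character. -/
theorem extra (R : Finset α) (I : Finset (α → ℤ)) (c : α → ℤ) (x : (α → ℤ) → α) (w : α → ℤ)
    (k f : ℤ) (hxR : ∀ v ∈ I, x v ∈ R ∧ c (x v) = 0) (hinj : Set.InjOn x I)
    (hval : ∀ v ∈ I, ∀ χ ∈ R, v χ = c χ + (if χ = x v then 1 else 0))
    (hwnn : ∀ χ ∈ R, 0 ≤ w χ) (hc : ∑ χ ∈ R, c χ * c χ = k)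
    (hwv : ∀ v ∈ I, ∑ χ ∈ R, w χ * v χ = f * k) (hww : ∑ χ ∈ R, w χ * w χ = 1 + f * f * k)
    {v₁ : α → ℤ} (hv₁ : v₁ ∈ I) (hpos : w (x v₁) ≠ 0) (hfle : 2 * f ≤ 2 * ((I.card : ℤ) - 1)) :
    (I.card : ℤ) ≤ 2 * f ∧ (∀ v ∈ I, w (x v) = 1) ∧
      ∑ χ ∈ R, (if χ ∈ I.image x then 0 else (w χ - f * c χ) * (w χ - f * c χ)) =
        2 * f + 1 - I.card ∧
      ∑ χ ∈ R, (w χ - f * c χ) * c χ = -1 := by
  set w₀ := w (x v₁) with hw₀
  have hwc : ∀ v ∈ I, ∑ χ ∈ R, w χ * c χ + w (x v) = f * k := by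
    intro v hv
    have h := hwv v hv
    rw [sum_congr rfl (g := fun χ => w χ * c χ + (if χ = x v then w χ else 0))
      (fun χ hχ => by rw [hval v hv χ hχ, mul_add, mul_ite, mul_one, mul_zero]),
      sum_add_distrib, sum_ite_eq', if_pos (hxR v hv).1] at h
    exact h
  have heq : ∀ v ∈ I, w (x v) = w₀ := fun v hv => by
    have := hwc v hv
    have := hwc v₁ hv₁
    omega
  have hdc : ∑ χ ∈ R, (w χ - f * c χ) * c χ = -w₀ := by
    simp only [sub_mul, sum_sub_distrib, mul_assoc, ← mul_sum, hc]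
    have := hwc v₁ hv₁
    rw [← hw₀] at this
    linarith
  have hd : ∑ χ ∈ R, (w χ - f * c χ) * (w χ - f * c χ) = 1 + 2 * f * w₀ := by
    have : ∀ χ, (w χ - f * c χ) * (w χ - f * c χ) =
        w χ * w χ - 2 * f * (w χ * c χ) + f * f * (c χ * c χ) := fun χ => by ring
    simp only [this, sum_add_distrib, sum_sub_distrib, ← mul_sum, hc, hww]
    have h := hwc v₁ hv₁
    rw [← hw₀] at h
    linear_combination (-(2 * f)) * h
  have hX : ∑ χ ∈ R, (if χ ∈ I.image x then 0 else (w χ - f * c χ) * (w χ - f * c χ)) =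
      1 + 2 * f * w₀ - (I.card : ℤ) * (w₀ * w₀) := by
    have h := sum_filter_add_sum_filter_not R (fun χ => χ ∈ I.image x)
      (fun χ => (w χ - f * c χ) * (w χ - f * c χ))
    rw [hd, show R.filter (fun χ => χ ∈ I.image x) = I.image x by
      ext χ
      simp only [mem_filter, and_iff_right_iff_imp, mem_image]
      rintro ⟨v, hv, rfl⟩
      exact (hxR v hv).1, sum_image hinj,
      sum_congr rfl (g := fun _ => w₀ * w₀) (fun v hv => by
        rw [heq v hv, (hxR v hv).2, mul_zero, sub_zero]), sum_const, nsmul_eq_mul] at h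
    rw [sum_ite, sum_const_zero, zero_add]
    push_cast at h
    linarith
  have hne : 1 ≤ ∑ χ ∈ R, (if χ ∈ I.image x then 0 else (w χ - f * c χ) * (w χ - f * c χ)) := by
    by_contra hlt
    have hnn : ∀ χ ∈ R, (0 : ℤ) ≤
        (if χ ∈ I.image x then 0 else (w χ - f * c χ) * (w χ - f * c χ)) := fun χ _ => by
      split_ifs; exacts [le_rfl, mul_self_nonneg _]
    have h0 := (sum_eq_zero_iff_of_nonneg hnn).1 (le_antisymm (by omega) (sum_nonneg hnn))
    have : ∑ χ ∈ R, (w χ - f * c χ) * c χ = 0 := sum_eq_zero fun χ hχ => by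
      by_cases hm : χ ∈ I.image x
      · obtain ⟨v, hv, rfl⟩ := mem_image.1 hm
        rw [(hxR v hv).2, mul_zero]
      · have := h0 χ hχ
        rw [if_neg hm, mul_self_eq_zero] at this
        rw [this, zero_mul]
    omega
  have hw1 : 1 ≤ w₀ := by
    have := hwnn _ (hxR v₁ hv₁).1
    rw [← hw₀] at this
    omega
  have hbig : (I.card : ℤ) * w₀ ≤ 2 * f := by
    rw [hX] at hne
    by_contra hc'
    have : (2 * f + 1) * w₀ ≤ (I.card : ℤ) * w₀ * w₀ :=
      mul_le_mul_of_nonneg_right (by omega) (by omega)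
    nlinarith
  have hw01 : w₀ = 1 := by
    by_contra hne1
    have : (I.card : ℤ) * 2 ≤ (I.card : ℤ) * w₀ := mul_le_mul_of_nonneg_left (by omega) (by omega)
    omega
  rw [hw01] at hX hdc
  refine ⟨?_, fun v hv => (heq v hv).trans hw01, by rw [hX]; ring, hdc⟩
  rw [hX] at hne
  linarith

end Cfsg.Agent.H48.Zass
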